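import Cfsg.Agent.H0.MultM
import Cfsg.Agent.H0.MA7.D
set_option maxRecDepth 100000
set_option Elab.async false
set_option linter.unusedSectionVars false
namespace H0.QA7
open H0 BN 
noncomputable def n17 : Net := (Net.cons (nat_lit 4) (nat_lit 0x6) (Net.cons (nat_lit 2) (nat_lit 0x30) (Net.cons (nat_lit 1) (nat_lit 0x44) (Net.cons (nat_lit 2) (nat_lit 0x20) (Net.cons (nat_lit 4) (nat_lit 0x4) Net.nil)))))
noncomputable def n18 : Net := (Net.cons (nat_lit 2) (nat_lit 0x2) (Net.cons (nat_lit 1) (nat_lit 0x14) (Net.cons (nat_lit 2) (nat_lit 0x2) Net.nil)))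
noncomputable def n19 : Net := (Net.cons (nat_lit 4) (nat_lit 0x2) (Net.cons (nat_lit 2) (nat_lit 0x2) (Net.cons (nat_lit 1) (nat_lit 0x14) (Net.cons (nat_lit 2) (nat_lit 0x2) (Net.cons (nat_lit 4) (nat_lit 0x2) Net.nil)))))
noncomputable def n20 : Net := (Net.cons (nat_lit 4) (nat_lit 0x8) (Net.cons (nat_lit 2) (nat_lit 0x20) (Net.cons (nat_lit 1) (nat_lit 0x10) (Net.cons (nat_lit 4) (nat_lit 0x8) Net.nil))))
noncomputable def n21 : Net := (Net.cons (nat_lit 4) (nat_lit 0x4) (Net.cons (nat_lit 2) (nat_lit 0x2) (Net.cons (nat_lit 1) (nat_lit 0x4) (Net.cons (nat_lit 2) (nat_lit 0x2) Net.nil))))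
noncomputable def nl2 : List Net := [n17, n18, n19, n20, n21]
theorem nl2_ok : allL (Net.ok (nat_lit 8)) nl2 = true := by decide +kernel
noncomputable def nl : List Net := [H0.MA7.n0, H0.MA7.n1, H0.MA7.n2, H0.MA7.n3, H0.MA7.n4, H0.MA7.n5, H0.MA7.n6, H0.MA7.n7, H0.MA7.n8, H0.MA7.n9, H0.MA7.n10, H0.MA7.n11, H0.MA7.n12, H0.MA7.n13, H0.MA7.n14, H0.MA7.n15, H0.MA7.n16, n17, n18, n19, n20, n21]
theorem nl_ok : allL (Net.ok (nat_lit 8)) nl = true := allL_append H0.MA7.nl_ok nl2_ok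
noncomputable def R : Rep := mkRep (nat_lit 3) (nat_lit 8) nl (by decide +kernel) nl_ok
def defs : List (List ℕ) := [[6, 9, 9], [4, 4, 8, 9, 9, 14], [18, 17, 17, 17, 18, 17], [11, 14], [6, 4, 6, 9, 11, 12]]
def ch2 : List Model.Lev := [(1, [[17], [19]], 4), (2, [[17, 18]], 2)]
noncomputable def tL2 : TC.WTr := (.node (.node (.node (.leaf [0, 0] 0 0 false) (.leaf [2, 1] 0 0 false)) (.leaf [1, 1] 0 0 false)) (.node (.node (.leaf [1, 0] 0 0 false) (.leaf [2, 2] 0 0 false)) (.leaf [2, 0] 0 0 false)))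
noncomputable def tR2 : TC.WTr := (.node (.node (.node (.leaf [2] 0 0 false) (.leaf [1, 2] 0 0 false)) (.leaf [] 0 0 false)) (.node (.node (.leaf [0, 1, 2] 0 0 false) (.leaf [] 0 0 false)) (.leaf [0, 2] 0 0 false)))
noncomputable def C2 : Tail.Cfg := ⟨nat_lit 2, nat_lit 1, nat_lit 3, nat_lit 6, nat_lit 15, tL2.get, tR2.get⟩
noncomputable def tests2 : List (List ℕ × ℕ × Bool × ℕ) := [([2], 3, false, (nat_lit 0x40000001c00000000000)), ([2], 4, false, (nat_lit 0x4000e000000000000000)), ([0], 0, false, (nat_lit 0x200000000008)), ([1], 1, false, (nat_lit 0x38007000000200070000))]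
noncomputable def rows2 : List (ℕ × List (ℕ × ℕ) × ℕ) := [(0, [(0, 1)], (nat_lit 0x0)), (1, [(2, 1)], (nat_lit 0x0)), (2, [(1, 1)], (nat_lit 0x0)), (3, [], (nat_lit 0x40)), (4, [(3, 1)], (nat_lit 0x0)), (5, [(2, 6), (3, 7)], (nat_lit 0xe00))]
noncomputable def YS2 : List (List (ℕ × ℕ) × ℕ × ℕ) := [([(4, 1)], 2, (nat_lit 0x8))]
def FS2 : List (List (ℕ × ℕ)) := [[(0, 1)], [(2, 1)], [(1, 1)]]
def av2 (x s : ℕ) : ℕ := ([[1, 0, 7], [0, 1, 0], [0, 0, 6]].getD x []).getD s 0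
def ch3 : List Model.Lev := [(3, [[20]], 3), (1, [[21]], 3)]
noncomputable def tL3 : TC.WTr := (.node (.node (.leaf [0, 0, 0] 0 0 false) (.leaf [1, 1, 1] 0 0 false)) (.leaf [1, 0] 0 0 false))
noncomputable def tR3 : TC.WTr := (.node (.node (.leaf [] 0 0 false) (.leaf [] 0 0 false)) (.leaf [0, 1] 0 0 false))
noncomputable def C3 : Tail.Cfg := ⟨nat_lit 3, nat_lit 2, nat_lit 2, nat_lit 3, nat_lit 19, tL3.get, tR3.get⟩
noncomputable def tests3 : List (List ℕ × ℕ × Bool × ℕ) := [([1], 0, false, (nat_lit 0x18001b))]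
noncomputable def rows3 : List (ℕ × List (ℕ × ℕ) × ℕ) := [(0, [(0, 1)], (nat_lit 0x0)), (1, [(2, 1)], (nat_lit 0x0)), (2, [(1, 1)], (nat_lit 0x0))]
noncomputable def YS3 : List (List (ℕ × ℕ) × ℕ × ℕ) := [([(1, 1)], 3, (nat_lit 0x8))]
def FS3 : List (List (ℕ × ℕ)) := [[(0, 1)], [(2, 1)]]
def av3 (x s : ℕ) : ℕ := ([[1, 0], [0, 1]].getD x []).getD s 0
theorem c0 : Model.fixP R [1] [[17, 18]] = true := by decide +kernel
theorem c1 : Model.growP R [[17, 18]] [0] 2 2 = true := by decide +kernel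
theorem c2 : Model.fixP R [] [[17], [19]] = true := by decide +kernel
theorem c3 : Model.growP R [[17], [19]] [0, 1] 1 4 = true := by decide +kernel
theorem c4 : rulesB R [4, 3, 2, 1, 0] (fun i => sh 17 (C2.L i)) (fun i => sh 17 (C2.R i)) 0 6 = true := by decide +kernel
theorem c5 : allL (Tail.chkT C2 (nat_lit 11) (nat_lit 7)) ((tests2.drop 0).take 4) = true := by decide +kernel
theorem c6 : allL (Tail.rowChk C2 (nat_lit 11) (nat_lit 7) (nat_lit 3) (tests2.map fun T => T.2.2.2) (FS2 ++ YS2.map fun Y => Y.1)) ((rows2.drop 0).take 6) = true := by decide +kernel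
theorem c7 : Tail.finChk C2 (nat_lit 11) (nat_lit 7) (nat_lit 3) (nat_lit 2) (C2.p ^ 2) av2 (tests2.map fun T => T.2.2.2) FS2 YS2 rows2 = true := by decide +kernel
theorem c8 : Model.fixP R [3] [[21]] = true := by decide +kernel
theorem c9 : Model.growP R [[21]] [0, 0] 1 3 = true := by decide +kernel
theorem c10 : Model.fixP R [] [[20]] = true := by decide +kernel
theorem c11 : Model.growP R [[20]] [0, 0] 3 3 = true := by decide +kernel
theorem c12 : rulesB R [4, 3, 2, 1, 0] (fun i => sh 20 (C3.L i)) (fun i => sh 20 (C3.R i)) 0 3 = true := by decide +kernel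
theorem c13 : allL (Tail.chkT C3 (nat_lit 12) (nat_lit 26)) ((tests3.drop 0).take 1) = true := by decide +kernel
theorem c14 : allL (Tail.rowChk C3 (nat_lit 12) (nat_lit 26) (nat_lit 5) (tests3.map fun T => T.2.2.2) (FS3 ++ YS3.map fun Y => Y.1)) ((rows3.drop 0).take 3) = true := by decide +kernel
theorem c15 : Tail.finChk C3 (nat_lit 12) (nat_lit 26) (nat_lit 5) (nat_lit 3) (C3.p ^ 2) av3 (tests3.map fun T => T.2.2.2) FS3 YS3 rows3 = true := by decide +kernel
theorem c16 : defsChk R defs 17 = true := by decide +kernel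
end H0.QA7
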